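import Cfsg.Agent.Lib.Char.ZStar
import Cfsg.Agent.Lib.Solv.Coprime
import Mathlib.GroupTheory.SemidirectProduct
import Mathlib.Algebra.Order.Chebyshev

/-!
# Coprime automorphisms fixing the centralizer of an involution
-/

set_option autoImplicit false
set_option linter.unusedSectionVars false

open scoped Pointwise
open Cfsg

namespace Cfsg.Agent.Lead.CopCentTau

universe u

variable {G : Type u} [Group G] [Finite G]

/-- the fixed subgroup of an automorphism -/
def fix (α : MulAut G) : Subgroup G where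
  carrier := {g | α g = g}
  one_mem' := map_one α
  mul_mem' := by intro a b ha hb; simp only [Set.mem_setOf_eq, map_mul] at *; rw [ha, hb]
  inv_mem' := by intro a ha; simp only [Set.mem_setOf_eq, map_inv] at *; rw [ha]

theorem mem_fix {α : MulAut G} {g : G} : g ∈ fix α ↔ α g = g := Iff.rfl

/-- An element moved by a fixed factor is fixed, for coprime automorphisms. -/
theorem fixed_of_quot {α : MulAut G} (hcop : (orderOf α).Coprime (Nat.card G)) {g : G}
    (h : g⁻¹ * α g ∈ fix α) : g ∈ fix α := by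
  set c := g⁻¹ * α g with hc
  have hg : α g = g * c := by rw [hc]; group
  have hcfix : α c = c := h
  have hp : ∀ k : ℕ, (α ^ k) g = g * c ^ k := by
    intro k
    induction k with
    | zero => simp
    | succ k ih =>
      rw [pow_succ', MulAut.mul_apply, ih, map_mul, map_pow, hg, hcfix, pow_succ', mul_assoc]
  have h1 := hp (orderOf α)
  rw [pow_orderOf_eq_one, MulAut.one_apply, left_eq_mul] at h1
  have h2 : orderOf c ∣ Nat.gcd (orderOf α) (Nat.card G) :=
    Nat.dvd_gcd (orderOf_dvd_of_pow_eq_one h1) (orderOf_dvd_natCard c)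
  rw [hcop.gcd_eq_one, Nat.dvd_one, orderOf_eq_one_iff] at h2
  rw [mem_fix, hg, h2, mul_one]

section Semi

variable (α : MulAut G)

/-- `G` extended by the cyclic group generated by `α` -/
abbrev Hol : Type u := G ⋊[(Subgroup.zpowers α).subtype] ↥(Subgroup.zpowers α)

/-- the acting group inside `Hol` -/
abbrev actA : Subgroup (Hol α) :=
  (SemidirectProduct.inr : ↥(Subgroup.zpowers α) →* Hol α).range

/-- `G` inside `Hol` -/
abbrev baseK : Subgroup (Hol α) := (SemidirectProduct.inl : G →* Hol α).range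

variable {α}

theorem inr_conj_inl (a : ↥(Subgroup.zpowers α)) (x : G) :
    (SemidirectProduct.inr a : Hol α) * SemidirectProduct.inl x * (SemidirectProduct.inr a)⁻¹ =
      SemidirectProduct.inl ((a : MulAut G) x) := by
  rw [← map_inv]
  exact (SemidirectProduct.inl_aut _ _).symm

theorem invariant_zpowers {X : Subgroup G} (h : ∀ x ∈ X, α x ∈ X) :
    ∀ β ∈ Subgroup.zpowers α, ∀ x ∈ X, β x ∈ X := by
  intro β hβ
  obtain ⟨k, rfl⟩ := mem_powers_iff_mem_zpowers.mpr hβ
  intro x hx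
  clear hβ
  induction k with
  | zero => simpa using hx
  | succ k ih =>
    show (α ^ (k + 1)) x ∈ X
    rw [pow_succ', MulAut.mul_apply]
    exact h _ ih

theorem actA_normalizes {X : Subgroup G} (h : ∀ x ∈ X, α x ∈ X) :
    actA α ≤ Subgroup.normalizer ((X.map SemidirectProduct.inl : Subgroup (Hol α)) : Set (Hol α)) := by
  rintro _ ⟨a, rfl⟩
  rw [Subgroup.mem_normalizer_iff]
  intro z
  constructor
  · rintro ⟨x, hx, rfl⟩
    exact ⟨_, invariant_zpowers h _ a.2 x hx, (inr_conj_inl a x).symm⟩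
  · rintro ⟨x, hx, hxe⟩
    refine ⟨((a⁻¹ : ↥(Subgroup.zpowers α)) : MulAut G) x, invariant_zpowers h _ a⁻¹.2 x hx, ?_⟩
    rw [← inr_conj_inl, hxe, map_inv, inv_inv]
    group

theorem invariant_of_normalizes {X : Subgroup G}
    (h : actA α ≤ Subgroup.normalizer ((X.map SemidirectProduct.inl : Subgroup (Hol α)) : Set (Hol α))) :
    ∀ x ∈ X, α x ∈ X := by
  intro x hx
  have h1 := (Subgroup.mem_normalizer_iff.mp
    (h ⟨⟨α, Subgroup.mem_zpowers α⟩, rfl⟩) (SemidirectProduct.inl x)).mp ⟨x, hx, rfl⟩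
  rw [inr_conj_inl] at h1
  obtain ⟨y, hy, hye⟩ := h1
  rw [SemidirectProduct.inl_inj] at hye
  exact hye ▸ hy

end Semi

variable {α : MulAut G}

theorem card_actA : Nat.card (actA α) = orderOf α := by
  rw [← Nat.card_zpowers]
  exact (Nat.card_congr (MonoidHom.ofInjective SemidirectProduct.inr_injective).toEquiv).symm

theorem baseK_eq : baseK α = (⊤ : Subgroup G).map SemidirectProduct.inl := MonoidHom.range_eq_map _

theorem card_map_inl (X : Subgroup G) :
    Nat.card (X.map (SemidirectProduct.inl : G →* Hol α)) = Nat.card X :=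
  Subgroup.card_map_of_injective SemidirectProduct.inl_injective

theorem finite_hol : Finite (Hol α) :=
  Finite.of_equiv _ SemidirectProduct.equivProd.symm

theorem zpowers_comm (a b : ↥(Subgroup.zpowers α)) : a * b = b * a := by
  obtain ⟨i, hi⟩ := a.2
  obtain ⟨j, hj⟩ := b.2
  apply Subtype.ext
  show (a : MulAut G) * b = b * a
  rw [← hi, ← hj, ← zpow_add, ← zpow_add, add_comm]

/-- An invariant 2-subgroup lies in an invariant Sylow 2-subgroup of an invariant overgroup. -/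
theorem exists_inv_sylow (hcop : (orderOf α).Coprime (Nat.card G)) (E U : Subgroup G) (hUE : U ≤ E)
    (hU : IsPGroup 2 U) (hUi : ∀ x ∈ U, α x ∈ U) (hEi : ∀ x ∈ E, α x ∈ E) :
    ∃ P : Subgroup G, Solv.IsSylIn 2 P E ∧ U ≤ P ∧ ∀ x ∈ P, α x ∈ P := by
  haveI : Fact (Nat.Prime 2) := ⟨Nat.prime_two⟩
  haveI := finite_hol (α := α)
  have hco : (Nat.card (actA α)).Coprime (Nat.card (E.map (SemidirectProduct.inl : G →* Hol α))) := by
    rw [card_actA, card_map_inl]
    exact hcop.coprime_dvd_right (Subgroup.card_subgroup_dvd_card E)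
  have hsol : Group.IsSolvable (actA α) :=
    Group.isSolvable_of_comm fun a b => by
      obtain ⟨a', ha'⟩ := a.2
      obtain ⟨b', hb'⟩ := b.2
      apply Subtype.ext
      show (a : Hol α) * b = b * a
      rw [← ha', ← hb', ← map_mul, ← map_mul, (zpowers_comm a' b')]
  obtain ⟨P, hP, hUP, hPA⟩ := Solv.exists_invariant_sylow_ge (actA_normalizes hEi) hco (Or.inl hsol)
    (U.map SemidirectProduct.inl) (Subgroup.map_mono hUE) (hU.map _) (actA_normalizes hUi)
  refine ⟨P.comap SemidirectProduct.inl, ?_, Subgroup.map_le_iff_le_comap.mp hUP, ?_⟩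
  · have hle : P ≤ baseK α := hP.1.trans (Subgroup.map_le_range _ _)
    refine ⟨fun x hx => ?_, ?_⟩
    · obtain ⟨y, hy, hye⟩ := hP.1 hx
      exact SemidirectProduct.inl_inj.mp hye ▸ hy
    · rw [← card_map_inl (α := α), Subgroup.map_comap_eq, inf_eq_right.mpr hle, hP.2, card_map_inl]
  · refine invariant_of_normalizes ?_
    rw [Subgroup.map_comap_eq, inf_eq_right.mpr (hP.1.trans (Subgroup.map_le_range _ _))]
    exact hPA

/-- Invariant Sylow 2-subgroups are conjugate by a fixed element. -/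
theorem inv_sylow_conj (hcop : (orderOf α).Coprime (Nat.card G)) {P Q : Subgroup G}
    (hP : Solv.IsSylIn 2 P ⊤) (hQ : Solv.IsSylIn 2 Q ⊤) (hPi : ∀ x ∈ P, α x ∈ P)
    (hQi : ∀ x ∈ Q, α x ∈ Q) : ∃ c ∈ fix α, ∀ x ∈ Q, c⁻¹ * x * c ∈ P := by
  haveI : Fact (Nat.Prime 2) := ⟨Nat.prime_two⟩
  haveI := finite_hol (α := α)
  have htop : ∀ x ∈ (⊤ : Subgroup G), α x ∈ (⊤ : Subgroup G) := fun _ _ => Subgroup.mem_top _
  have hco : (Nat.card (actA α)).Coprime
      (Nat.card ((⊤ : Subgroup G).map (SemidirectProduct.inl : G →* Hol α))) := by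
    rw [card_actA, card_map_inl, Subgroup.card_top]
    exact hcop
  have hsol : Group.IsSolvable (actA α) :=
    Group.isSolvable_of_comm fun a b => by
      obtain ⟨a', ha'⟩ := a.2
      obtain ⟨b', hb'⟩ := b.2
      apply Subtype.ext
      show (a : Hol α) * b = b * a
      rw [← ha', ← hb', ← map_mul, ← map_mul, (zpowers_comm a' b')]
  have hmap : ∀ {R : Subgroup G}, Solv.IsSylIn 2 R ⊤ →
      Solv.IsSylIn 2 (R.map (SemidirectProduct.inl : G →* Hol α))
        ((⊤ : Subgroup G).map SemidirectProduct.inl) := fun {R} hR =>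
    ⟨Subgroup.map_mono le_top, by rw [card_map_inl, card_map_inl, hR.2]⟩
  obtain ⟨c, ⟨hcK, hcA⟩, hc⟩ := Solv.invariant_sylow_conj (actA_normalizes htop) hco (Or.inl hsol)
    (hmap hP) (hmap hQ) (actA_normalizes hPi) (actA_normalizes hQi)
  obtain ⟨g, -, rfl⟩ := hcK
  refine ⟨g, ?_, fun x hx => ?_⟩
  · have h1 := Subgroup.mem_centralizer_iff.mp hcA _ ⟨⟨α, Subgroup.mem_zpowers α⟩, rfl⟩
    rw [mem_fix, ← SemidirectProduct.inl_inj (φ := (Subgroup.zpowers α).subtype)]
    have h2 := inr_conj_inl (⟨α, Subgroup.mem_zpowers α⟩ : ↥(Subgroup.zpowers α)) g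
    rw [h1, mul_inv_cancel_right] at h2
    exact h2.symm
  · have h1 : (SemidirectProduct.inl x : Hol α) ∈ MulAut.conj (SemidirectProduct.inl g : Hol α) •
        P.map SemidirectProduct.inl := hc ▸ Subgroup.mem_map_of_mem _ hx
    rw [Solv.mem_conj_smul, ← map_inv, ← map_mul, ← map_mul] at h1
    obtain ⟨y, hy, hye⟩ := h1
    exact SemidirectProduct.inl_inj.mp hye ▸ hy

variable (hcop : (orderOf α).Coprime (Nat.card G)) {τ : G} (hτ : orderOf τ = 2)
  (hC : ∀ g : G, Commute g τ → α g = g)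

include hcop hτ hC

theorem conj_mem_fix {g : G} (h : g * τ * g⁻¹ ∈ fix α) : g ∈ fix α := by
  refine fixed_of_quot hcop ?_
  have hτf : α τ = τ := hC τ (Commute.refl τ)
  rw [mem_fix, map_mul, map_mul, map_inv, hτf] at h
  refine hC _ ?_
  show g⁻¹ * α g * τ = τ * (g⁻¹ * α g)
  calc g⁻¹ * α g * τ = g⁻¹ * (α g * τ * (α g)⁻¹) * α g := by group
    _ = g⁻¹ * (g * τ * g⁻¹) * α g := by rw [h]
    _ = τ * (g⁻¹ * α g) := by group

/-- A fixed invariant Sylow 2-subgroup contains `τ`; hence every invariant 2-subgroup is fixed. -/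
theorem two_le_fix (U : Subgroup G) (hU : IsPGroup 2 U) (hUi : ∀ x ∈ U, α x ∈ U) : U ≤ fix α := by
  haveI : Fact (Nat.Prime 2) := ⟨Nat.prime_two⟩
  have hτf : α τ = τ := hC τ (Commute.refl τ)
  obtain ⟨S, hS, hτS, hSi⟩ := exists_inv_sylow hcop ⊤ (Subgroup.zpowers τ) le_top
    (IsPGroup.of_card (n := 1) (by rw [Nat.card_zpowers, hτ, pow_one]))
    (fun x hx => by
      obtain ⟨k, rfl⟩ := hx
      simp only [map_zpow, hτf]
      exact zpow_mem (Subgroup.mem_zpowers τ) k)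
    (fun _ _ => Subgroup.mem_top _)
  have hSfix : S ≤ fix α := by
    by_contra hne
    set Q := S ⊓ fix α with hQ
    haveI : Group.IsNilpotent S := hS.isPGroup.isNilpotent
    have hnc := Group.normalizerCondition_of_isNilpotent (G := S) (Q.subgroupOf S)
      (lt_top_iff_ne_top.mpr fun h => hne ((Subgroup.subgroupOf_eq_top.mp h).trans inf_le_right))
    obtain ⟨s, hsN, hsQ⟩ := SetLike.exists_of_lt hnc
    have hsf : (s : G) ∉ fix α := fun h => hsQ ⟨s.2, h⟩
    apply hsf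
    refine fixed_of_quot hcop ?_
    have hq := (Subgroup.mem_normalizer_iff.mp hsN
      ⟨τ, hτS (Subgroup.mem_zpowers τ)⟩).mp
      (show (τ : G) ∈ Q from ⟨hτS (Subgroup.mem_zpowers τ), hτf⟩)
    have hq' : α ((s : G) * τ * (s : G)⁻¹) = (s : G) * τ * (s : G)⁻¹ := hq.2
    rw [map_mul, map_mul, map_inv, hτf] at hq'
    refine hC _ ?_
    show (s : G)⁻¹ * α s * τ = τ * ((s : G)⁻¹ * α s)
    calc (s : G)⁻¹ * α s * τ = (s : G)⁻¹ * (α s * τ * (α s)⁻¹) * α s := by group
      _ = (s : G)⁻¹ * ((s : G) * τ * (s : G)⁻¹) * α s := by rw [hq']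
      _ = τ * ((s : G)⁻¹ * α s) := by group
  obtain ⟨R, hR, hUR, hRi⟩ := exists_inv_sylow hcop ⊤ U le_top hU hUi (fun _ _ => Subgroup.mem_top _)
  obtain ⟨c, hc, hcx⟩ := inv_sylow_conj hcop hS hR hSi hRi
  intro x hx
  have h1 : c⁻¹ * x * c ∈ fix α := hSfix (hcx x (hUR hx))
  have h2 := mul_mem (mul_mem hc h1) (inv_mem hc)
  rwa [show c * (c⁻¹ * x * c) * c⁻¹ = x by group] at h2

/-- the class of `τ` -/
def cls (τ : G) : Set G := {y | ∃ g : G, g * τ * g⁻¹ = y}

omit hcop hC in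
theorem cls_mul_self {y : G} (hy : y ∈ cls τ) : y * y = 1 := by
  obtain ⟨g, rfl⟩ := hy
  calc g * τ * g⁻¹ * (g * τ * g⁻¹) = g * (τ * τ) * g⁻¹ := by group
    _ = 1 := by rw [← pow_two, ← hτ, pow_orderOf_eq_one]; group

/-- the involutions of the class inverting `j` with product in the class -/
def wSet (τ j : G) : Set G := {y | y ∈ cls τ ∧ y * j ∈ cls τ}

theorem wSet_bound {j : G} (hj : j ∈ fix α) :
    Nat.card (wSet τ j) ≤
      (fix α).relIndex (Subgroup.centralizer ({j} : Set G)) *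
        Nat.card {y : wSet τ j // (y : G) ∈ fix α} := by
  classical
  haveI : Fact (Nat.Prime 2) := ⟨Nat.prime_two⟩
  set U := Subgroup.centralizer ({j} : Set G) with hU
  set C₀ := (fix α).subgroupOf U
  have hmemU : ∀ {u : G}, u ∈ U ↔ u * j = j * u := by
    intro u; rw [hU, Subgroup.mem_centralizer_singleton_iff]
  have hWconj : ∀ u ∈ U, ∀ y ∈ wSet τ j, u * y * u⁻¹ ∈ wSet τ j := by
    rintro u hu y ⟨⟨g, hg⟩, ⟨k, hk⟩⟩
    refine ⟨⟨u * g, by rw [← hg]; group⟩, ⟨u * k, ?_⟩⟩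
    have hju : u⁻¹ * j = j * u⁻¹ := (Commute.inv_left (hmemU.mp hu))
    calc u * k * τ * (u * k)⁻¹ = u * (k * τ * k⁻¹) * u⁻¹ := by group
      _ = u * y * (j * u⁻¹) := by rw [hk]; group
      _ = u * y * u⁻¹ * j := by rw [← hju]; group
  have key : ∀ y ∈ wSet τ j, ∃ u ∈ U, u * y * u⁻¹ ∈ fix α := by
    intro y hy
    have hyy := cls_mul_self hτ hy.1
    have hyinv : y⁻¹ = y := inv_eq_of_mul_eq_one_right hyy
    have hinv : y * j * y⁻¹ = j⁻¹ := by
      have h2 := cls_mul_self hτ hy.2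
      rw [hyinv]
      calc y * j * y = (y * j * (y * j)) * j⁻¹ := by group
        _ = j⁻¹ := by rw [h2, one_mul]
    set E := U ⊔ Subgroup.zpowers y with hE
    have hyN : Subgroup.zpowers y ≤ Subgroup.normalizer (U : Set G) := by
      rw [Subgroup.zpowers_le, Subgroup.mem_normalizer_iff]
      intro u
      rw [hmemU, hmemU]
      have hj' : y⁻¹ * j * y = j⁻¹ := by rw [hyinv] at hinv ⊢; exact hinv
      constructor
      · intro h
        have h' : u * j⁻¹ = j⁻¹ * u := Commute.inv_right h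
        calc y * u * y⁻¹ * j = y * (u * (y⁻¹ * j * y)) * y⁻¹ := by group
          _ = y * (u * j⁻¹) * y⁻¹ := by rw [hj']
          _ = y * (j⁻¹ * u) * y⁻¹ := by rw [h']
          _ = y * ((y⁻¹ * j * y) * u) * y⁻¹ := by rw [hj']
          _ = j * (y * u * y⁻¹) := by group
      · intro h
        have h' : y * u * y⁻¹ * j⁻¹ = j⁻¹ * (y * u * y⁻¹) := Commute.inv_right h
        calc u * j = y⁻¹ * (y * u * y⁻¹ * (y * j * y⁻¹)) * y := by group
          _ = y⁻¹ * (y * u * y⁻¹ * j⁻¹) * y := by rw [hinv]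
          _ = y⁻¹ * (j⁻¹ * (y * u * y⁻¹)) * y := by rw [h']
          _ = y⁻¹ * ((y * j * y⁻¹) * (y * u * y⁻¹)) * y := by rw [hinv]
          _ = j * u := by group
    have hEi : ∀ x ∈ E, α x ∈ E := by
      have hτf : α τ = τ := hC τ (Commute.refl τ)
      have hle : E ≤ E.comap α.toMonoidHom := by
        refine sup_le (fun u hu => ?_) (Subgroup.zpowers_le.mpr ?_)
        · refine Subgroup.mem_sup_left (hmemU.mpr ?_)
          have := congrArg α (hmemU.mp hu)
          simpa [hj, mem_fix.mp hj] using this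
        · show α y ∈ E
          have hαinv : α y * j * (α y)⁻¹ = j⁻¹ := by
            have := congrArg α hinv
            simpa [mem_fix.mp hj] using this
          have hu : α y * y ∈ U := hmemU.mpr (by
            calc α y * y * j = α y * (y * j * y⁻¹) * y := by group
              _ = α y * j⁻¹ * y := by rw [hinv]
              _ = (α y * j * (α y)⁻¹)⁻¹ * (α y * y) := by group
              _ = j * (α y * y) := by rw [hαinv, inv_inv])
          have := mul_mem (Subgroup.mem_sup_left hu : α y * y ∈ E)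
            (Subgroup.mem_sup_right (Subgroup.mem_zpowers y) : y ∈ E)
          rwa [mul_assoc, hyy, mul_one] at this
      exact fun x hx => hle hx
    obtain ⟨P, hP, -, hPi⟩ := exists_inv_sylow hcop E ⊥ bot_le IsPGroup.of_bot
      (fun x hx => by rw [Subgroup.mem_bot.mp hx, map_one]; exact one_mem _) hEi
    have hPfix : P ≤ fix α := two_le_fix hcop hτ hC P hP.isPGroup hPi
    obtain ⟨P', hP'⟩ := hP.exists_sylow
    have hyE : y ∈ E := Subgroup.mem_sup_right (Subgroup.mem_zpowers y)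
    obtain ⟨Y, hY⟩ := IsPGroup.exists_le_sylow (G := E)
      (P := Subgroup.zpowers (⟨y, hyE⟩ : E)) (IsPGroup.of_card (n := (if y = 1 then 0 else 1)) (by
        rw [Nat.card_zpowers, ← Subgroup.orderOf_coe]
        split_ifs with h
        · simp [h]
        · rw [pow_one, orderOf_eq_prime (by rw [pow_two]; exact hyy) h]))
    obtain ⟨e, he⟩ := MulAction.exists_smul_eq E Y P'
    have h1 : e * ⟨y, hyE⟩ * e⁻¹ ∈ (P' : Subgroup E) := by
      rw [← he]
      exact Subgroup.mem_map_of_mem _ (hY (Subgroup.mem_zpowers _))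
    have h2 : (e : G) * y * (e : G)⁻¹ ∈ fix α := hPfix (hP' ▸ Subgroup.mem_map_of_mem _ h1)
    have he2 : (e : G) ∈ ((U ⊔ Subgroup.zpowers y : Subgroup G) : Set G) := by
      have := e.2; simpa only [← hE, SetLike.mem_coe] using this
    rw [Subgroup.coe_mul_of_right_le_normalizer_left U _ hyN] at he2
    obtain ⟨u, hu, v, ⟨k, hk⟩, huv⟩ := Set.mem_mul.mp he2
    refine ⟨u, hu, ?_⟩
    rw [← huv, ← hk] at h2
    have h3 : u * y ^ k * y * (u * y ^ k)⁻¹ = u * y * u⁻¹ := by group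
    rw [h3] at h2
    exact h2
  rw [Subgroup.relIndex, Subgroup.index, ← Nat.card_prod]
  refine Nat.card_le_card_of_surjective
    (fun p : (U ⧸ C₀) × {y : wSet τ j // (y : G) ∈ fix α} =>
      (⟨_, hWconj _ p.1.out.2 _ p.2.1.2⟩ : wSet τ j)) fun ⟨y, hy⟩ => ?_
  obtain ⟨u, hu, huy⟩ := key y hy
  set r : U := (QuotientGroup.mk (s := C₀) (⟨u, hu⟩ : U)⁻¹).out with hr
  have hrc : (⟨u, hu⟩ : U) * r ∈ C₀ := by
    have h4 : QuotientGroup.mk (s := C₀) (⟨u, hu⟩ : U)⁻¹ = QuotientGroup.mk r :=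
      (QuotientGroup.out_eq' _).symm
    have h5 := QuotientGroup.eq.mp h4
    rwa [inv_inv] at h5
  have hw : (r : G)⁻¹ * y * ((r : G)⁻¹)⁻¹ ∈ wSet τ j := hWconj _ (inv_mem r.2) y hy
  have hwf : (r : G)⁻¹ * y * ((r : G)⁻¹)⁻¹ ∈ fix α := by
    have hc : u * (r : G) ∈ fix α := hrc
    have := mul_mem (mul_mem (inv_mem hc) huy) hc
    rwa [show (u * (r : G))⁻¹ * (u * y * u⁻¹) * (u * r) = (r : G)⁻¹ * y * ((r : G)⁻¹)⁻¹ by group] at this
  refine ⟨(QuotientGroup.mk (⟨u, hu⟩ : U)⁻¹, ⟨⟨_, hw⟩, hwf⟩), ?_⟩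
  apply Subtype.ext
  show (r : G) * ((r : G)⁻¹ * y * ((r : G)⁻¹)⁻¹) * (r : G)⁻¹ = y
  group

theorem card_cls : Nat.card (cls τ) =
    (fix α).index * Nat.card {y : cls τ // (y : G) ∈ fix α} := by
  classical
  set C := fix α
  have hτf : τ ∈ C := hC τ (Commute.refl τ)
  rw [Subgroup.index, ← Nat.card_prod]
  refine (Nat.card_eq_of_bijective
    (fun p : (G ⧸ C) × {y : cls τ // (y : G) ∈ C} =>
      (⟨p.1.out * p.2.1.1 * p.1.out⁻¹, by
        obtain ⟨g, hg⟩ := p.2.1.2
        exact ⟨p.1.out * g, by rw [← hg]; group⟩⟩ : cls τ)) ⟨?_, ?_⟩).symm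
  · rintro ⟨a, ⟨⟨x, ⟨g, hg⟩⟩, hx⟩⟩ ⟨b, ⟨⟨y, ⟨k, hk⟩⟩, hy⟩⟩ h
    have h1 : a.out * x * a.out⁻¹ = b.out * y * b.out⁻¹ := congrArg Subtype.val h
    have hgC : g ∈ C := conj_mem_fix hcop hτ hC (hg.symm ▸ hx)
    have hkC : k ∈ C := conj_mem_fix hcop hτ hC (hk.symm ▸ hy)
    have h2 : k⁻¹ * b.out⁻¹ * a.out * g ∈ C := conj_mem_fix hcop hτ hC (by
      rw [show k⁻¹ * b.out⁻¹ * a.out * g * τ * (k⁻¹ * b.out⁻¹ * a.out * g)⁻¹ =
        k⁻¹ * (b.out⁻¹ * (a.out * (g * τ * g⁻¹) * a.out⁻¹) * b.out) * k by group, hg, h1,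
        show k⁻¹ * (b.out⁻¹ * (b.out * y * b.out⁻¹) * b.out) * k = k⁻¹ * y * k by group, ← hk,
        show k⁻¹ * (k * τ * k⁻¹) * k = τ by group]
      exact hτf)
    have h3 : b.out⁻¹ * a.out ∈ C := by
      have := mul_mem (mul_mem hkC h2) (inv_mem hgC)
      rwa [show k * (k⁻¹ * b.out⁻¹ * a.out * g) * g⁻¹ = b.out⁻¹ * a.out by group] at this
    have hab : b = a := by
      rw [← QuotientGroup.out_eq' a, ← QuotientGroup.out_eq' b]
      exact QuotientGroup.eq.mpr h3
    subst hab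
    have hxy : x = y := by
      have := h1
      simpa using this
    subst hxy
    rfl
  · rintro ⟨y, ⟨g, hg⟩⟩
    set a : G ⧸ C := QuotientGroup.mk g
    have hag : a.out⁻¹ * g ∈ C := QuotientGroup.eq.mp (QuotientGroup.out_eq' a)
    refine ⟨⟨a, ⟨⟨a.out⁻¹ * y * a.out, ⟨a.out⁻¹ * g, by rw [← hg]; group⟩⟩, ?_⟩⟩, Subtype.ext ?_⟩
    · have := mul_mem (mul_mem hag hτf) (inv_mem hag)
      rwa [show a.out⁻¹ * g * τ * (a.out⁻¹ * g)⁻¹ = a.out⁻¹ * (g * τ * g⁻¹) * a.out by group, hg]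
        at this
    · show a.out * (a.out⁻¹ * y * a.out) * a.out⁻¹ = y
      group

end Cfsg.Agent.Lead.CopCentTau
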